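import Cfsg.Agent.H661.SC.Fix
import Cfsg.Agent.H622.Levi.UU
import Cfsg.Agent.Characters.CentralCharacter

/-!
# Cuspidal characters of `SL_2(F)` with fixed vectors of a `p`-subgroup (S4526, helper928)

* `bound_of_gen` : a representation with a vector fixed by `U`, `G = U ⟨t⟩ ∪ U w U ⟨t⟩` : `χ(1) ≤ ∑_U χ`;
* `exists_cusp_fix` : `K` has no elements conjugate to the elements `≠ 1` of `U`: some `χ` without fixed vectors of `U` has
  a fixed vector of `K`;
* `exists_rank_one` : the result for `SL_2(F)`.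
-/

set_option autoImplicit false

open scoped ComplexConjugate

namespace Cfsg.Agent.H928.Imc

open Cfsg Cfsg.Agent.Characters Cfsg.Agent.Characters.Core Cfsg.Agent.H661.SC Cfsg.Agent.H625.SylConst
  Cfsg.Agent.OddOrderCharacters.IndRes Module

universe u v

section abs

variable {G : Type u} [Group G]

/-- the sum of the character of a representation over a subgroup -/
theorem sum_eq_finrank (P : Subgroup G) [Fintype P] {n : ℕ} (ρ : Representation ℂ G (Fin n → ℂ)) :
    ∑ z : P, ρ.character (z : G) =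
      (Fintype.card P : ℂ) * (finrank ℂ (Representation.invariants (ρ.comp P.subtype)) : ℂ) := by
  have hinv : Invertible (Fintype.card P : ℂ) := invertibleOfNonzero (Nat.cast_ne_zero.2 Fintype.card_ne_zero)
  let σ : Representation ℂ P (Fin n → ℂ) := ρ.comp P.subtype
  have h1 : LinearMap.trace ℂ _ σ.averageMap = (Module.finrank ℂ σ.invariants : ℂ) :=
    LinearMap.IsProj.trace σ.isProj_averageMap
  have h2 : σ.averageMap = ⅟(Fintype.card P : ℂ) • ∑ z : P, ρ (z : G) := by
    unfold Representation.averageMap GroupAlgebra.average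
    rw [map_smul, map_sum]
    congr 1
    refine Finset.sum_congr rfl fun z _ => ?_
    rw [Representation.asAlgebraHom_of]
    rfl
  change _ = _ * (Module.finrank ℂ σ.invariants : ℂ)
  rw [← h1, h2, map_smul, map_sum, smul_eq_mul, ← mul_assoc, mul_invOf_self, one_mul]
  rfl

/-- **The degree of a representation with a fixed vector of `U`**, `G = U ⟨t⟩ ∪ U w U ⟨t⟩`. -/
theorem bound_of_gen {n : ℕ} (ρ : Representation ℂ G (Fin n → ℂ)) (hirr : ρ.IsIrreducible) (U : Subgroup G)
    [Fintype U] (t w : G) (ht : ∀ u ∈ U, t⁻¹ * u * t ∈ U)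
    (hG : ∀ g : G, (∃ u ∈ U, ∃ k : ℕ, g = u * t ^ k) ∨ ∃ u ∈ U, ∃ u' ∈ U, ∃ k : ℕ, g = u * w * u' * t ^ k)
    (hfix : Fix U ρ.character) : ∃ d : ℕ, n ≤ d ∧ ∑ u : U, ρ.character (u : G) = d := by
  classical
  let σ : Representation ℂ U (Fin n → ℂ) := ρ.comp U.subtype
  refine ⟨Fintype.card U * finrank ℂ σ.invariants, ?_, by rw [sum_eq_finrank]; push_cast; rfl⟩
  obtain ⟨v₀, hv₀, hv₀'⟩ := (fix_iff_exists U ρ).1 hfix
  -- an eigenvector of `t` in the fixed space
  have hst : ∀ x ∈ σ.invariants, ρ t x ∈ σ.invariants := by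
    intro x hx u
    change ρ (u : G) (ρ t x) = ρ t x
    have h1 : (u : G) * t = t * (t⁻¹ * u * t) := by group
    rw [← Module.End.mul_apply, ← map_mul, h1, map_mul, Module.End.mul_apply]
    congr 1
    exact hx ⟨_, ht u u.2⟩
  have hmem : v₀ ∈ σ.invariants := fun u => hv₀' u u.2
  have hnt : Nontrivial σ.invariants := ⟨⟨⟨v₀, hmem⟩, 0, fun h => hv₀ (congrArg Subtype.val h)⟩⟩
  obtain ⟨l, hl⟩ := Module.End.exists_eigenvalue ((ρ t).restrict hst)
  obtain ⟨⟨v, hv⟩, hv1, hv2⟩ := hl.exists_hasEigenvector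
  have hv0 : v ≠ 0 := fun h => hv2 (Subtype.ext h)
  have htv : ρ t v = l • v := by
    have := Module.End.mem_eigenspace_iff.1 hv1
    exact congrArg Subtype.val this
  have htk : ∀ k : ℕ, ρ (t ^ k) v = l ^ k • v := by
    intro k
    induction k with
    | zero => rw [pow_zero, pow_zero, map_one, one_smul]; rfl
    | succ k ih => rw [pow_succ, map_mul, Module.End.mul_apply, htv, map_smul, ih, smul_smul, pow_succ, mul_comm]
  have huv : ∀ u ∈ U, ρ u v = v := fun u hu => hv ⟨u, hu⟩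
  -- the orbit
  let b : Option U → (Fin n → ℂ) := fun o => o.elim v (fun u => ρ ((u : G) * w) v)
  have horb : ∀ g : G, ∃ (c : ℂ) (o : Option U), ρ g v = c • b o := by
    intro g
    rcases hG g with ⟨u, hu, k, rfl⟩ | ⟨u, hu, u', hu', k, rfl⟩
    · refine ⟨l ^ k, none, ?_⟩
      rw [map_mul, Module.End.mul_apply, htk, map_smul, huv u hu]
      rfl
    · refine ⟨l ^ k, some ⟨u, hu⟩, ?_⟩
      rw [map_mul, Module.End.mul_apply, htk, map_smul, map_mul, Module.End.mul_apply, huv u' hu']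
      rfl
  have hbg : ∀ o, ∃ g, b o = ρ g v := by
    intro o
    cases o with
    | none => exact ⟨1, by rw [map_one]; rfl⟩
    | some u => exact ⟨_, rfl⟩
  have htop : Submodule.span ℂ (Set.range b) = ⊤ := by
    let S : Subrepresentation ρ :=
      { toSubmodule := Submodule.span ℂ (Set.range b)
        apply_mem_toSubmodule := by
          intro g x hx
          induction hx using Submodule.span_induction with
          | mem x hx =>
            obtain ⟨o, rfl⟩ := hx
            obtain ⟨g', hg'⟩ := hbg o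
            rw [hg', ← Module.End.mul_apply, ← map_mul]
            obtain ⟨c, o', h⟩ := horb (g * g')
            rw [h]
            exact Submodule.smul_mem _ _ (Submodule.subset_span ⟨o', rfl⟩)
          | zero => rw [map_zero]; exact Submodule.zero_mem _
          | add x y _ _ hx hy => rw [map_add]; exact Submodule.add_mem _ hx hy
          | smul c x _ hx => rw [map_smul]; exact Submodule.smul_mem _ _ hx }
    rcases hirr.eq_bot_or_eq_top S with h | h
    · exfalso
      have h1 : v ∈ S.toSubmodule := Submodule.subset_span ⟨none, rfl⟩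
      rw [h] at h1
      exact hv0 ((Submodule.mem_bot ℂ).1 h1)
    · exact congrArg Subrepresentation.toSubmodule h
  have hn : n ≤ Fintype.card U + 1 := by
    have h1 := finrank_range_le_card (R := ℂ) b
    rw [Set.finrank, htop, finrank_top, finrank_fin_fun, Fintype.card_option] at h1
    exact h1
  have hd : 0 < finrank ℂ σ.invariants := Module.finrank_pos
  have hU : 0 < Fintype.card U := Fintype.card_pos
  rcases Nat.lt_or_ge n (Fintype.card U + 1) with hlt | hge
  · calc n ≤ Fintype.card U * 1 := by omega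
      _ ≤ _ := Nat.mul_le_mul_left _ hd
  · have hn' : n = Fintype.card U + 1 := le_antisymm hn hge
    have hli : LinearIndependent ℂ b := by
      apply linearIndependent_of_top_le_span_of_card_eq_finrank htop.ge
      rw [Fintype.card_option, finrank_fin_fun, hn']
    have h2 : 2 ≤ finrank ℂ σ.invariants := by
      let v₁ : Fin n → ℂ := ∑ u : U, ρ ((u : G) * w) v
      have hv₁ : v₁ ∈ σ.invariants := by
        intro u'
        change ρ (u' : G) (∑ u : U, ρ ((u : G) * w) v) = ∑ u : U, ρ ((u : G) * w) v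
        rw [map_sum]
        refine Fintype.sum_equiv (Equiv.mulLeft u') _ _ fun u => ?_
        rw [← Module.End.mul_apply, ← map_mul, ← mul_assoc]
        rfl
      have hli2 : LinearIndependent ℂ ![(⟨v, hv⟩ : σ.invariants), ⟨v₁, hv₁⟩] := by
        rw [LinearIndependent.pair_iff]
        intro s r hsr
        have h3 : s • v + r • v₁ = 0 := congrArg Subtype.val hsr
        have h4 : ∑ o : Option U, (o.elim s (fun _ => r)) • b o = 0 := by
          rw [Fintype.sum_option]
          change s • v + ∑ u : U, r • ρ ((u : G) * w) v = 0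
          rw [← Finset.smul_sum]
          exact h3
        have h5 := Fintype.linearIndependent_iff.1 hli _ h4
        exact ⟨h5 none, h5 (some 1)⟩
      have := hli2.fintype_card_le_finrank
      rwa [Fintype.card_fin] at this
    calc n ≤ Fintype.card U * 2 := by omega
      _ ≤ _ := Nat.mul_le_mul_left _ h2

variable [Fintype G]

/-- **Existence of `χ` without fixed vectors of `U` and with a fixed vector of `K`.** -/
theorem exists_cusp_fix (U K : Subgroup G) [Fintype U] (hU : 1 < Fintype.card U)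
    (hK : ∀ u ∈ U, ∀ g : G, g⁻¹ * u * g ∈ K → u = 1)
    (hb : ∀ χ : G → ℂ, IsIrrCharacter G χ → ∑ u : U, χ (u : G) ≠ 0 →
      ∃ d n : ℕ, n ≤ d ∧ χ 1 = n ∧ ∑ u : U, χ (u : G) = d) :
    ∃ χ : G → ℂ, IsIrrCharacter G χ ∧ ∑ u : U, χ (u : G) = 0 ∧ Fix K χ := by
  classical
  have : Fintype K := Fintype.ofFinite K
  have : Finite (IrrCharacter G) := finite_irr
  let _ : Fintype (IrrCharacter G) := Fintype.ofFinite _
  by_contra hcon
  push Not at hcon
  let π : G → ℂ := indFun K (fun _ => (1 : ℂ))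
  have hπ : IsCharacter G π := isCharacter_indFun K (isIrr_isCharacter isIrr_one)
  obtain ⟨m, hm⟩ := isCharacter_iff.1 hπ
  have hmχ : ∀ χ : IrrCharacter G, m χ ≠ 0 → Fix K (χ : G → ℂ) := by
    intro χ h
    rw [← fix_of_inner]
    change classInner π (χ : G → ℂ) ≠ 0
    rw [hm, classInner_sum_nsmul_irr]
    exact_mod_cast h
  have hm1 : m ⟨1, isIrr_one⟩ ≠ 0 := by
    have h1 : Fix K ((⟨1, isIrr_one⟩ : IrrCharacter G) : G → ℂ) := by
      rw [fix_iff]
      change ∑ z : K, (1 : ℂ) ≠ 0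
      rw [Finset.sum_const, Finset.card_univ, nsmul_eq_mul, mul_one]
      exact Nat.cast_ne_zero.2 Fintype.card_ne_zero
    rw [← fix_of_inner] at h1
    change classInner π _ ≠ 0 at h1
    rw [hm, classInner_sum_nsmul_irr] at h1
    exact_mod_cast h1
  -- the induced character vanishes on `U`
  have hv : ∀ u : U, u ≠ 1 → π (u : G) = 0 := by
    intro u hu
    change (Nat.card K : ℂ)⁻¹ * ∑ x : G, extendByZero K (fun _ => (1 : ℂ)) (x⁻¹ * u * x) = 0
    rw [Finset.sum_eq_zero, mul_zero]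
    intro x _
    unfold extendByZero
    apply Function.extend_apply'
    rintro ⟨y, hy⟩
    exact hu (Subtype.ext (hK u u.2 x (hy ▸ y.2)))
  have hsum : ∑ u : U, π (u : G) = π 1 := by
    rw [Finset.sum_eq_single (1 : U)]
    · rfl
    · intro u _ hu
      exact hv u hu
    · intro h
      exact absurd (Finset.mem_univ _) h
  have h1 : ∑ χ : IrrCharacter G, (m χ : ℂ) * (∑ u : U, (χ : G → ℂ) (u : G) - (χ : G → ℂ) 1) = 0 := by
    have e1 : ∀ g, π g = ∑ χ : IrrCharacter G, (m χ : ℂ) * (χ : G → ℂ) g := by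
      intro g
      rw [hm, Finset.sum_apply]
      refine Finset.sum_congr rfl fun χ _ => ?_
      rw [Pi.smul_apply, nsmul_eq_mul]
    simp only [mul_sub, Finset.sum_sub_distrib, Finset.mul_sum]
    rw [Finset.sum_comm, ← e1, sub_eq_zero, ← hsum]
    exact Finset.sum_congr rfl fun u _ => (e1 _).symm
  -- every term is a natural number
  have h2 : ∀ χ : IrrCharacter G, ∃ a : ℕ, (m χ : ℂ) * (∑ u : U, (χ : G → ℂ) (u : G) - (χ : G → ℂ) 1) = a := by
    intro χ
    by_cases h0 : m χ = 0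
    · exact ⟨0, by rw [h0]; simp⟩
    · have h3 := hcon χ χ.2
      have h4 : ∑ u : U, (χ : G → ℂ) (u : G) ≠ 0 := fun h5 => h3 h5 (hmχ χ h0)
      obtain ⟨d, n, hnd, hn, hd⟩ := hb χ χ.2 h4
      refine ⟨m χ * (d - n), ?_⟩
      rw [hn, hd, Nat.cast_mul, Nat.cast_sub hnd]
  choose a ha using h2
  rw [Finset.sum_congr rfl fun χ _ => ha χ, ← Nat.cast_sum, Nat.cast_eq_zero, Finset.sum_eq_zero_iff] at h1
  have h3 := ha ⟨1, isIrr_one⟩
  rw [h1 _ (Finset.mem_univ _), Nat.cast_zero, mul_eq_zero, Nat.cast_eq_zero] at h3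
  rcases h3 with h3 | h3
  · exact hm1 h3
  · change ∑ u : U, (1 : ℂ) - 1 = 0 at h3
    rw [Finset.sum_const, Finset.card_univ, nsmul_eq_mul, mul_one, sub_eq_zero] at h3
    have h4 : Fintype.card U = 1 := by exact_mod_cast h3
    omega

end abs

section sl

open Matrix Cfsg.Agent.H622.Levi
open scoped MatrixGroups

variable {F : Type u} [Field F]

/-- the upper unitriangular matrices -/
def uu (b : F) : SpecialLinearGroup (Fin (1 + 1)) F := ⟨!![1, b; 0, 1], by rw [Matrix.det_fin_two_of]; ring⟩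

/-- the diagonal matrices -/
def dd (a : Fˣ) : SpecialLinearGroup (Fin (1 + 1)) F :=
  ⟨!![(a : F), 0; 0, ((a⁻¹ : Fˣ) : F)], by rw [Matrix.det_fin_two_of]; simp⟩

/-- the Weyl element -/
def ww : SpecialLinearGroup (Fin (1 + 1)) F := ⟨!![0, 1; -1, 0], by rw [Matrix.det_fin_two_of]; ring⟩

theorem uu_mem (b : F) : uu b ∈ UU F (0 : Fin 1) := by
  rw [mem_UU]
  intro r s h
  fin_cases r <;> fin_cases s <;> simp_all [uu]

theorem mem_UU_iff_uu {g : SpecialLinearGroup (Fin (1 + 1)) F} : g ∈ UU F (0 : Fin 1) ↔ ∃ b, g = uu b := by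
  constructor
  · intro hg
    rw [mem_UU] at hg
    refine ⟨g.1 0 1, Subtype.ext ?_⟩
    ext r s
    fin_cases r <;> fin_cases s
    · exact hg 0 0 (by simp)
    · rfl
    · exact hg 1 0 (by simp)
    · exact hg 1 1 (by simp)
  · rintro ⟨b, rfl⟩
    exact uu_mem b

theorem dd_mul (a b : Fˣ) : dd (a * b) = dd a * dd b := by
  apply Subtype.ext
  change _ = !![(a : F), 0; 0, ((a⁻¹ : Fˣ) : F)] * !![(b : F), 0; 0, ((b⁻¹ : Fˣ) : F)]
  rw [Matrix.mul_fin_two]
  simp [dd, mul_comm]

theorem dd_pow (a : Fˣ) (k : ℕ) : dd (a ^ k) = dd a ^ k := by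
  induction k with
  | zero =>
    rw [pow_zero, pow_zero]
    apply Subtype.ext
    ext r s
    fin_cases r <;> fin_cases s <;> simp [dd]
  | succ k ih => rw [pow_succ, pow_succ, dd_mul, ih]

theorem uu_pow (b : F) (k : ℕ) : uu b ^ k = uu (k * b) := by
  induction k with
  | zero =>
    rw [pow_zero, Nat.cast_zero, zero_mul]
    apply Subtype.ext
    ext r s
    fin_cases r <;> fin_cases s <;> simp [uu]
  | succ k ih =>
    rw [pow_succ, ih]
    apply Subtype.ext
    change !![(1 : F), k * b; 0, 1] * !![1, b; 0, 1] = !![1, ((k + 1 : ℕ) : F) * b; 0, 1]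
    rw [Matrix.mul_fin_two]
    push_cast
    ext r s
    fin_cases r <;> fin_cases s <;> simp
    ring

/-- the Bruhat decomposition -/
theorem bruhat_two (g : SpecialLinearGroup (Fin (1 + 1)) F) :
    (∃ b a, g = uu b * dd a) ∨ ∃ b b' a, g = uu b * ww * uu b' * dd a := by
  obtain ⟨M, hM⟩ := g
  have hdet : M 0 0 * M 1 1 - M 0 1 * M 1 0 = 1 := by rw [← Matrix.det_fin_two]; exact hM
  by_cases hc : M 1 0 = 0
  · left
    rw [hc, mul_zero, sub_zero] at hdet
    have ha : M 0 0 ≠ 0 := fun h => by rw [h, zero_mul] at hdet; exact zero_ne_one hdet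
    have hd : M 1 1 = (M 0 0)⁻¹ := eq_inv_of_mul_eq_one_right hdet
    refine ⟨M 0 1 * M 0 0, Units.mk0 _ ha, Subtype.ext ?_⟩
    change M = !![(1 : F), M 0 1 * M 0 0; 0, 1] * !![M 0 0, 0; 0, ((Units.mk0 (M 0 0) ha)⁻¹ : Fˣ)]
    rw [Matrix.mul_fin_two]
    ext r s
    fin_cases r <;> fin_cases s
    · simp
    · simp [mul_assoc, mul_inv_cancel₀ ha]
    · simp [hc]
    · simp [hd]
  · right
    refine ⟨M 0 0 / M 1 0, M 1 1 * M 1 0, Units.mk0 (-M 1 0) (neg_ne_zero.2 hc), Subtype.ext ?_⟩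
    change M = !![(1 : F), M 0 0 / M 1 0; 0, 1] * !![0, 1; -1, 0] * !![1, M 1 1 * M 1 0; 0, 1] *
      !![-M 1 0, 0; 0, ((Units.mk0 (-M 1 0) (neg_ne_zero.2 hc))⁻¹ : Fˣ)]
    rw [Matrix.mul_fin_two, Matrix.mul_fin_two, Matrix.mul_fin_two]
    ext r s
    fin_cases r <;> fin_cases s
    · simp; field_simp
    · simp
      field_simp
      rw [← hdet]
      ring
    · simp
    · simp; field_simp

theorem dd_uu (a : Fˣ) (b : F) : (dd a)⁻¹ * uu b * dd a = uu (((a⁻¹ : Fˣ) : F) ^ 2 * b) := by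
  have h1 : uu b * dd a = dd a * uu (((a⁻¹ : Fˣ) : F) ^ 2 * b) := by
    apply Subtype.ext
    change !![(1 : F), b; 0, 1] * !![(a : F), 0; 0, ((a⁻¹ : Fˣ) : F)] =
      !![(a : F), 0; 0, ((a⁻¹ : Fˣ) : F)] * !![1, ((a⁻¹ : Fˣ) : F) ^ 2 * b; 0, 1]
    rw [Matrix.mul_fin_two, Matrix.mul_fin_two]
    ext r s
    fin_cases r <;> fin_cases s
    · simp
    · simp
      field_simp
    · simp
    · simp
  rw [mul_assoc, h1, inv_mul_cancel_left]

variable [Finite F]

/-- **The bound for `SL_2(F)`.** -/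
theorem bound_two {χ : SpecialLinearGroup (Fin (1 + 1)) F → ℂ} (hχ : IsIrrCharacter _ χ)
    [Fintype (UU F (0 : Fin 1))] (h0 : ∑ u : UU F (0 : Fin 1), χ u ≠ 0) :
    ∃ d n : ℕ, n ≤ d ∧ χ 1 = n ∧ ∑ u : UU F (0 : Fin 1), χ u = d := by
  obtain ⟨n, ρ, hρ, rfl⟩ := hχ
  obtain ⟨ζ, hζ⟩ := IsCyclic.exists_generator (α := Fˣ)
  have hpow : ∀ a : Fˣ, ∃ k : ℕ, a = ζ ^ k := by
    intro a
    obtain ⟨k, hk⟩ := (mem_powers_iff_mem_zpowers (x := ζ) (y := a)).2 (hζ a)
    exact ⟨k, hk.symm⟩
  obtain ⟨d, hd, hsum⟩ := bound_of_gen ρ hρ (UU F (0 : Fin 1)) (dd ζ) ww (fun u hu => by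
      obtain ⟨b, rfl⟩ := mem_UU_iff_uu.1 hu
      rw [dd_uu]
      exact uu_mem _) (fun g => by
      rcases bruhat_two g with ⟨b, a, rfl⟩ | ⟨b, b', a, rfl⟩
      · obtain ⟨k, rfl⟩ := hpow a
        exact Or.inl ⟨_, uu_mem b, k, by rw [dd_pow]⟩
      · obtain ⟨k, rfl⟩ := hpow a
        exact Or.inr ⟨_, uu_mem b, _, uu_mem b', k, by rw [dd_pow]⟩) ((fix_iff _ _).2 h0)
  exact ⟨d, n, hd, by rw [Representation.char_one, finrank_fin_fun], hsum⟩

/-- **A cuspidal character of `SL_2(F)`, trivial on the centre, with fixed vectors of the `p`-subgroups.** -/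
theorem exists_rank_one {p : ℕ} (hp : p.Prime) (hpF : (p : F) ≠ 0) :
    ∃ η : SpecialLinearGroup (Fin (1 + 1)) F → ℂ, IsIrrCharacter _ η ∧
      (∀ z ∈ Subgroup.center (SpecialLinearGroup (Fin (1 + 1)) F), η z = η 1) ∧
      (∀ i : Fin 1, ∀ [Fintype (UU F i)], ∑ g : UU F i, η g = 0) ∧ FixAll p η := by
  classical
  have : Fact p.Prime := ⟨hp⟩
  let G := SpecialLinearGroup (Fin (1 + 1)) F
  have : Fintype G := Fintype.ofFinite G
  have : Fintype (UU F (0 : Fin 1)) := Fintype.ofFinite _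
  obtain ⟨r, hr⟩ := CharP.exists F
  have hrp : r.Prime := CharP.char_is_prime F r
  obtain ⟨Q⟩ : Nonempty (Sylow p G) := inferInstance
  let K : Subgroup G := (Q : Subgroup G) ⊔ Subgroup.center G
  have hrpc : r.Coprime p := (Nat.coprime_primes hrp hp).2 fun h => hpF (by rw [← h]; exact CharP.cast_eq_zero F r)
  have hrq : r.Coprime (Nat.card F - 1) := by
    have h1 : r ∣ Nat.card F := by
      have := Fintype.ofFinite F
      obtain ⟨n, -, hn⟩ := FiniteField.card F r
      rw [Nat.card_eq_fintype_card, hn]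
      exact dvd_pow_self r n.ne_zero
    rw [Nat.Prime.coprime_iff_not_dvd hrp]
    intro h2
    have h3 : r ∣ Nat.card F - (Nat.card F - 1) := Nat.dvd_sub h1 h2
    rw [Nat.sub_sub_self Finite.one_lt_card.le] at h3
    exact hrp.one_lt.ne' (Nat.dvd_one.1 h3)
  have hZ : ∀ z ∈ Subgroup.center G, z ^ (Nat.card F - 1) = 1 := by
    intro z hz
    rw [Matrix.SpecialLinearGroup.mem_center_iff] at hz
    obtain ⟨c, hc, hcz⟩ := hz
    rw [Fintype.card_fin] at hc
    have hc0 : c ≠ 0 := by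
      rintro rfl
      norm_num at hc
    apply Subtype.ext
    rw [Matrix.SpecialLinearGroup.coe_pow, ← hcz, ← map_pow]
    have h1 : (Units.mk0 c hc0) ^ (Nat.card F - 1) = 1 := by
      rw [← Nat.card_units]
      exact pow_card_eq_one'
    have h2 := congrArg Units.val h1
    rw [Units.val_pow_eq_pow_val, Units.val_mk0, Units.val_one] at h2
    rw [h2, map_one]
    rfl
  have hKel : ∀ x ∈ K, ∃ a : ℕ, x ^ ((Nat.card F - 1) * p ^ a) = 1 := by
    intro x hx
    obtain ⟨y, hy, z, hz, rfl⟩ := Subgroup.mem_sup_of_normal_right.1 hx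
    obtain ⟨a, ha⟩ := Q.isPGroup' ⟨y, hy⟩
    have ha' : y ^ p ^ a = 1 := by
      have := congrArg Subtype.val ha
      simpa using this
    refine ⟨a, ?_⟩
    have hcomm : Commute y z := Subgroup.mem_center_iff.1 hz y
    rw [hcomm.mul_pow, mul_comm (Nat.card F - 1), pow_mul, ha', one_pow, one_mul, mul_comm (p ^ a), pow_mul, hZ z hz,
      one_pow]
  have hur : ∀ u ∈ UU F (0 : Fin 1), u ^ r = 1 := by
    intro u hu
    obtain ⟨b, rfl⟩ := mem_UU_iff_uu.1 hu
    rw [uu_pow, CharP.cast_eq_zero, zero_mul]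
    have := uu_pow b 0
    rw [pow_zero, Nat.cast_zero, zero_mul] at this
    exact this.symm
  obtain ⟨η, hη, hη0, hηK⟩ := exists_cusp_fix (UU F (0 : Fin 1)) K (by
      rw [Fintype.one_lt_card_iff]
      refine ⟨⟨uu 1, uu_mem 1⟩, 1, ?_⟩
      intro h
      have h1 : (uu (1 : F)).1 0 1 = (1 : Matrix (Fin (1 + 1)) (Fin (1 + 1)) F) 0 1 :=
        congrFun (congrFun (congrArg Subtype.val (congrArg Subtype.val h)) 0) 1
      simp [uu] at h1)
    (fun u hu g hg => by
      obtain ⟨a, ha⟩ := hKel _ hg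
      have h1 : (g⁻¹ * u * g) ^ r = 1 := by
        have h2 : (g⁻¹ * u * (g⁻¹)⁻¹) ^ r = g⁻¹ * u ^ r * (g⁻¹)⁻¹ := conj_pow
        rw [inv_inv] at h2
        rw [h2, hur u hu]
        group
      have h2 : Nat.Coprime r ((Nat.card F - 1) * p ^ a) := Nat.Coprime.mul_right hrq (hrpc.pow_right a)
      have h3 : g⁻¹ * u * g = 1 := by
        have h4 := Nat.dvd_gcd (orderOf_dvd_of_pow_eq_one h1) (orderOf_dvd_of_pow_eq_one ha)
        rw [Nat.Coprime.gcd_eq_one h2] at h4
        exact orderOf_eq_one_iff.1 (Nat.dvd_one.1 h4)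
      have h4 : u = g * (g⁻¹ * u * g) * g⁻¹ := by group
      rw [h4, h3]
      group)
    (fun χ hχ h => bound_two hχ h)
  refine ⟨η, hη, ?_, ?_, FixAll.of_sylow (isIrr_isCharacter hη) Q (Fix.mono le_sup_left (isIrr_isCharacter hη) hηK)⟩
  · intro z hz
    have hfz := Fix.mono (le_sup_right : Subgroup.center G ≤ K) (isIrr_isCharacter hη) hηK
    obtain ⟨n, ρ, hρ, rfl⟩ := hη
    obtain ⟨v, hv, hv'⟩ := (fix_iff_exists _ ρ).1 hfz
    obtain ⟨c, hc⟩ := CentralCharacter.exists_scalar_of_commute ρ (ρ z) fun g v => by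
      rw [← Module.End.mul_apply, ← map_mul, ← Subgroup.mem_center_iff.1 hz g, map_mul]
      rfl
    have h1 := hv' z hz
    rw [hc, LinearMap.smul_apply, LinearMap.id_apply] at h1
    have h2 : c = 1 := by
      have h3 : (c - 1) • v = 0 := by rw [sub_smul, one_smul, h1, sub_self]
      exact sub_eq_zero.1 ((smul_eq_zero.1 h3).resolve_right hv)
    unfold Representation.character
    rw [hc, h2, one_smul, map_one]
    rfl
  · intro i hi
    have hi0 : i = 0 := Subsingleton.elim _ _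
    subst hi0
    convert hη0

end sl

end Cfsg.Agent.H928.Imc
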