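import Cfsg.Agent.H928.Imc.Van
import Cfsg.Agent.H928.Imc.GG
import Cfsg.Agent.H622.Levi.NonSwap
import Cfsg.Agent.H353.IMC.Engine

/-!
# The cuspidal inputs with fixed vectors for the exceptional groups (S4526, helper928)

`R` a root group datum in characteristic `p`, `p₀ ≠ p`, `q` the order of the root groups of the component.

* `fixAll_chain` : every cuspidal character of a chain of `m` nodes, `m + 1` an odd prime, `p₀ ∤ q ^ (m + 1) - 1` or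
  `p₀ ∣ q - 1`, has fixed vectors of the `p₀`-subgroups;
* `fixAll_small` : `p₀` does not divide `q ^ i - 1`, `i ≤ m + 1`;
* `inF_node`, `inF_chain`, `inF_small`, `inA2F`, `pairF`; `exists_chain_deg` : with the degree.
-/

set_option autoImplicit false
set_option linter.unusedSectionVars false

open scoped ComplexConjugate

namespace Cfsg.Agent.H928.Imc

open Cfsg Cfsg.Agent.Characters CoxeterSystem Cfsg.Agent.ChevalleyStructure.CoxeterGeom Cfsg.Agent.Tits.Roots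
  Cfsg.Agent.Tits.Core Cfsg.Agent.Nodes.Reps Cfsg.Agent.Nodes.BNOf Cfsg.Agent.Nodes.StabComb
open Cfsg.Agent.LieRecognition.BNCox (cA)
open Cfsg.Agent.H622.Levi hiding MJ
open Cfsg.Agent.H661.SC Cfsg.Agent.H625.SylConst Cfsg.Agent.H353.IMC
open Cfsg.Agent.H53.HC (MJ Cusp NonSwap conjME T_le_normalizer_MJ)
open Matrix

universe u

variable {I W : Type*} {Y : Type u} [Fintype I] [DecidableEq I] [Group W] [Group Y] {M : CoxeterMatrix I}
  {cs : CoxeterSystem M W} {A : I → I → ℤ} {h : IsCartan M A} {p : ℕ} {T : Subgroup Y} {n : I → Y}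
  {X : (I → ℤ) → Subgroup Y} [Finite W] [Finite Y] {p₀ : ℕ} [hp₀ : Fact p₀.Prime]

theorem cast_ne_zero {F : Type*} [Field F] [Finite F] (h : ¬ p₀ ∣ Nat.card F) : (p₀ : F) ≠ 0 := by
  intro h0
  apply h
  obtain ⟨r, hr⟩ := CharP.exists F
  have hrp := CharP.char_is_prime F r
  have h1 : r ∣ p₀ := (CharP.cast_eq_zero_iff F r p₀).1 h0
  have h2 : r = p₀ := (Nat.prime_dvd_prime_iff_eq hrp hp₀.out).1 h1
  subst h2
  have := Fintype.ofFinite F
  obtain ⟨n, -, hn⟩ := FiniteField.card F r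
  rw [Nat.card_eq_fintype_card, hn]
  exact dvd_pow_self r n.ne_zero

section co

variable {m : ℕ} {F : Type} [Field F] [Finite F] {φ : SpecialLinearGroup (Fin (m + 1)) F →* Y} {k : Fin m ↪ I}

/-- the surjection onto `M_K` -/
theorem exists_onto (C : Co X k F φ) (hk : ∀ i j, M (k i) (k j) = cA m i j) (hm : 1 ≤ m) :
    ∃ f : SpecialLinearGroup (Fin (m + 1)) F →* ↥(MJ cs h X (Set.range k)), Function.Surjective f ∧
      ∀ g, (f g : Y) = φ g := by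
  have hran : φ.range = MJ cs h X (Set.range k) := C.range hk hm
  refine ⟨φ.codRestrict _ fun g => hran ▸ ⟨g, rfl⟩, ?_, fun g => rfl⟩
  rintro ⟨y, hy⟩
  rw [← hran] at hy
  obtain ⟨g, rfl⟩ := hy
  exact ⟨g, rfl⟩

/-- the sums over the block unipotent subgroups -/
theorem sum_UU_eq (C : Co X k F φ) (hk : ∀ i j, M (k i) (k j) = cA m i j)
    {f : SpecialLinearGroup (Fin (m + 1)) F →* ↥(MJ cs h X (Set.range k))} (hf : ∀ g, (f g : Y) = φ g)
    {θ : ↥(MJ cs h X (Set.range k)) → ℂ} (hθ : Cusp cs h X (Set.range k) θ) (i : Fin m) [Fintype (UU F i)] :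
    ∑ g : UU F i, (θ ∘ f) g = 0 := by
  classical
  have : Fintype (H53.HC.rad cs h X (Set.range k) (k i)) := Fintype.ofFinite _
  rw [← hθ.van (k i) ⟨i, rfl⟩]
  have hmem : ∀ g : UU F i, φ g ∈ H53.HC.rad cs h X (Set.range k) (k i) := by
    intro g
    have h2 : φ g ∈ (UU F i).map φ := ⟨g, g.2, rfl⟩
    rw [C.map_UU (cs := cs) (h := h) hk i] at h2
    exact h2
  refine Fintype.sum_bijective (fun g : UU F i => (⟨φ g, hmem g⟩ : H53.HC.rad cs h X (Set.range k) (k i)))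
    ⟨?_, ?_⟩ _ _ ?_
  · intro g g' hgg
    have h2 : φ g = φ g' := congrArg Subtype.val hgg
    have h3 : (g : SpecialLinearGroup (Fin (m + 1)) F)⁻¹ * g' ∈ φ.ker := by
      rw [MonoidHom.mem_ker, map_mul, map_inv, h2, inv_mul_cancel]
    have h4 := UU_inf_center (mul_mem (inv_mem g.2) g'.2) (C.ker h3)
    exact Subtype.ext (inv_mul_eq_one.1 h4)
  · rintro ⟨y, hy⟩
    have h2 : y ∈ (UU F i).map φ := by
      rw [C.map_UU (cs := cs) (h := h) hk i]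
      exact hy
    obtain ⟨g, hg, rfl⟩ := h2
    exact ⟨⟨g, hg⟩, rfl⟩
  · intro g
    rw [Function.comp_apply]
    congr 1
    exact Subtype.ext (hf g)

theorem fixAll_of_co (C : Co X k F φ) (hk : ∀ i j, M (k i) (k j) = cA m i j) (hm : 1 ≤ m) (hpr : (m + 1).Prime)
    (hodd : Odd (m + 1)) (hpF : ¬ p₀ ∣ Nat.card F) (hc : ¬ p₀ ∣ Nat.card F ^ (m + 1) - 1 ∨ p₀ ∣ Nat.card F - 1)
    {θ : ↥(MJ cs h X (Set.range k)) → ℂ} (hθ : Cusp cs h X (Set.range k) θ) : FixAll p₀ θ := by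
  obtain ⟨f, hf, hfv⟩ := exists_onto (cs := cs) (h := h) C hk hm
  have hirr : IsIrrCharacter _ (θ ∘ f) := Core.isIrr_comp f hf hθ.irr
  refine fixAll_of_comp f hf (Core.isIrr_isCharacter hθ.irr) (fixAll_sl hpr hodd hp₀.out (cast_ne_zero hpF) hc hirr ?_
    fun i _ => sum_UU_eq C hk hfv hθ i)
  intro z hz
  have h1 : f z ∈ Subgroup.center ↥(MJ cs h X (Set.range k)) := by
    rw [Subgroup.mem_center_iff]
    intro x
    obtain ⟨g, rfl⟩ := hf x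
    rw [← map_mul, ← map_mul, Subgroup.mem_center_iff.1 hz g]
  have h2 := hθ.cen _ h1 1
  rw [mul_one] at h2
  rw [Function.comp_apply, Function.comp_apply, map_one, h2]

/-- a component of order prime to `p₀` -/
theorem fixAll_of_co_small (C : Co X k F φ) (hk : ∀ i j, M (k i) (k j) = cA m i j) (hm : 1 ≤ m)
    (hpF : ¬ p₀ ∣ Nat.card F) (hc : ∀ i, 1 ≤ i → i ≤ m + 1 → ¬ p₀ ∣ Nat.card F ^ i - 1)
    {θ : ↥(MJ cs h X (Set.range k)) → ℂ} (hθ : Cusp cs h X (Set.range k) θ) : FixAll p₀ θ := by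
  classical
  obtain ⟨f, hf, hfv⟩ := exists_onto (cs := cs) (h := h) C hk hm
  have := Fintype.ofFinite F
  have hGL : ¬ p₀ ∣ Nat.card (GL (Fin (m + 1)) F) := by
    rw [Matrix.card_GL_field, hp₀.out.prime.dvd_finsetProd_iff]
    rintro ⟨i, -, hi⟩
    have h1 : Fintype.card F ^ (m + 1) - Fintype.card F ^ (i : ℕ) =
        Fintype.card F ^ (i : ℕ) * (Fintype.card F ^ (m + 1 - i) - 1) := by
      rw [Nat.mul_sub, mul_one, ← pow_add, Nat.add_sub_cancel' i.2.le]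
    rw [h1, hp₀.out.dvd_mul] at hi
    rcases hi with hi | hi
    · exact hpF (by rw [Nat.card_eq_fintype_card]; exact hp₀.out.dvd_of_dvd_pow hi)
    · exact hc (m + 1 - i) (by have := i.2; omega) (by omega) (by rw [Nat.card_eq_fintype_card]; exact hi)
  have hSL : ¬ p₀ ∣ Nat.card (SpecialLinearGroup (Fin (m + 1)) F) := fun h1 =>
    hGL (h1.trans (Subgroup.card_dvd_of_injective SpecialLinearGroup.toGL SpecialLinearGroup.toGL_injective))
  have hMJ : ¬ p₀ ∣ Nat.card ↥(MJ cs h X (Set.range k)) := fun h1 =>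
    hSL (h1.trans (Subgroup.card_dvd_of_surjective f hf))
  intro P hP
  refine fix_of_vanish P hθ.irr fun z hz hz1 => ?_
  exfalso
  obtain ⟨a, ha⟩ := hP ⟨z, hz⟩
  have h2 : z ^ p₀ ^ a = 1 := by
    have := congrArg Subtype.val ha
    simpa using this
  have h3 : Nat.Coprime (p₀ ^ a) (Nat.card ↥(MJ cs h X (Set.range k))) :=
    Nat.Coprime.pow_left a ((Nat.Prime.coprime_iff_not_dvd hp₀.out).2 hMJ)
  exact hz1 (orderOf_eq_one_iff.1 (Nat.eq_one_of_dvd_coprimes h3 (orderOf_dvd_of_pow_eq_one h2) (orderOf_dvd_natCard z)))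

end co

/-- **All cuspidal characters of a chain have fixed vectors.** -/
theorem fixAll_chain (R : RGD cs h p T n X) {m : ℕ} (hm : 2 ≤ m) (k : Fin m ↪ I)
    (hk : ∀ i j, M (k i) (k j) = cA m i j) (hpr : (m + 1).Prime) (hodd : Odd (m + 1)) {q : ℕ} (i₀ : Fin m)
    (hq : Nat.card (X (sr (k i₀))) = q) (hpq : ¬ p₀ ∣ q) (hc : ¬ p₀ ∣ q ^ (m + 1) - 1 ∨ p₀ ∣ q - 1)
    {θ : ↥(MJ cs h X (Set.range k)) → ℂ} (hθ : Cusp cs h X (Set.range k) θ) : FixAll p₀ θ := by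
  obtain ⟨F, _, _, φ, C⟩ := exists_co R hm k hk
  rw [C.card i₀] at hq
  subst hq
  exact fixAll_of_co C hk (by omega) hpr hodd hpq hc hθ

/-- a chain whose subgroup has order prime to `p₀` -/
theorem fixAll_small (R : RGD cs h p T n X) {m : ℕ} (hm : 2 ≤ m) (k : Fin m ↪ I)
    (hk : ∀ i j, M (k i) (k j) = cA m i j) {q : ℕ} (i₀ : Fin m) (hq : Nat.card (X (sr (k i₀))) = q) (hpq : ¬ p₀ ∣ q)
    (hc : ∀ i, 1 ≤ i → i ≤ m + 1 → ¬ p₀ ∣ q ^ i - 1)
    {θ : ↥(MJ cs h X (Set.range k)) → ℂ} (hθ : Cusp cs h X (Set.range k) θ) : FixAll p₀ θ := by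
  obtain ⟨F, _, _, φ, C⟩ := exists_co R hm k hk
  rw [C.card i₀] at hq
  subst hq
  exact fixAll_of_co_small C hk (by omega) hpq hc hθ

/-- **A chain of nodes.** -/
theorem inF_chain (R : RGD cs h p T n X) {m : ℕ} (hm : 2 ≤ m) (k : Fin m ↪ I)
    (hk : ∀ i j, M (k i) (k j) = cA m i j) (hpr : (m + 1).Prime) (hodd : Odd (m + 1)) {q : ℕ} (i₀ : Fin m)
    (hq : Nat.card (X (sr (k i₀))) = q) (hpq : ¬ p₀ ∣ q) (hc : ¬ p₀ ∣ q ^ (m + 1) - 1 ∨ p₀ ∣ q - 1) :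
    InF p₀ cs h X (Set.range k) := by
  obtain ⟨θ, -, -, hθ, -⟩ := cusp_chain R hm k hk i₀ hq
  exact ⟨θ, hθ, fixAll_chain R hm k hk hpr hodd i₀ hq hpq hc hθ⟩

/-- a chain of nodes, with the degree -/
theorem exists_chain_deg (R : RGD cs h p T n X) {m : ℕ} (hm : 2 ≤ m) (k : Fin m ↪ I)
    (hk : ∀ i j, M (k i) (k j) = cA m i j) (hpr : (m + 1).Prime) (hodd : Odd (m + 1)) {q : ℕ} (i₀ : Fin m)
    (hq : Nat.card (X (sr (k i₀))) = q) (hpq : ¬ p₀ ∣ q) (hc : ¬ p₀ ∣ q ^ (m + 1) - 1 ∨ p₀ ∣ q - 1) :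
    ∃ (θ : ↥(MJ cs h X (Set.range k)) → ℂ) (e t : ℕ), Cusp cs h X (Set.range k) θ ∧ FixAll p₀ θ ∧
      θ 1 = e ∧ e * t = ∏ i ∈ Finset.range m, (q ^ (i + 1) - 1) ∧ t ∣ Nat.gcd (m + 1) (q - 1) := by
  obtain ⟨θ, e, t, hθ, h1, h2, h3⟩ := cusp_chain R hm k hk i₀ hq
  exact ⟨θ, e, t, hθ, fixAll_chain R hm k hk hpr hodd i₀ hq hpq hc hθ, h1, h2, h3⟩

/-- a chain of nodes, order prime to `p₀` -/
theorem inF_small (R : RGD cs h p T n X) {m : ℕ} (hm : 2 ≤ m) (k : Fin m ↪ I)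
    (hk : ∀ i j, M (k i) (k j) = cA m i j) {q : ℕ} (i₀ : Fin m)
    (hq : Nat.card (X (sr (k i₀))) = q) (hpq : ¬ p₀ ∣ q) (hc : ∀ i, 1 ≤ i → i ≤ m + 1 → ¬ p₀ ∣ q ^ i - 1) :
    InF p₀ cs h X (Set.range k) := by
  obtain ⟨θ, -, -, hθ, -⟩ := cusp_chain R hm k hk i₀ hq
  exact ⟨θ, hθ, fixAll_small R hm k hk i₀ hq hpq hc hθ⟩

/-- **A node with a simply joined neighbour.** -/
theorem inF_node (R : RGD cs h p T n X) (i j : I) (hij : M i j = 3) (hpq : ¬ p₀ ∣ Nat.card (X (sr i))) :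
    InF p₀ cs h X {i} := by
  obtain ⟨F, _, _, φ, C⟩ := exists_co_one R i j hij
  let k : Fin 1 ↪ I := ⟨fun _ => i, fun a b _ => Subsingleton.elim a b⟩
  have hk : Set.range k = {i} := by
    ext x
    constructor
    · rintro ⟨_, rfl⟩; rfl
    · rintro rfl; exact ⟨0, rfl⟩
  have C' : Co X k F φ := C
  have hkM : ∀ a b, M (k a) (k b) = cA 1 a b := by
    intro a b
    rw [Subsingleton.elim a b, M.diagonal, CoxeterMatrix.diagonal]
  have hcard : Nat.card (X (sr i)) = Nat.card F := C'.card 0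
  rw [hcard] at hpq
  obtain ⟨η, h1, h2, h3, h4⟩ := exists_rank_one (F := F) hp₀.out (cast_ne_zero hpq)
  obtain ⟨θ, hθ, hv⟩ := exists_descend (cs := cs) (h := h) C' hkM le_rfl h1 h2 h3
  obtain ⟨f, hf, hfv⟩ := exists_onto (cs := cs) (h := h) C' hkM le_rfl
  have h5 : InF p₀ cs h X (Set.range k) := by
    refine ⟨θ, hθ, fixAll_of_comp f hf (Core.isIrr_isCharacter hθ.irr) ?_⟩
    have h6 : θ ∘ f = η := funext fun g => hv g (f g) (hfv g)
    rw [h6]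
    exact h4
  rwa [hk] at h5

/-- **The input for one component of type `A_2`.** -/
theorem inA2F (R : RGD cs h p T n X) {k₀ k₁ : I} (hM : M k₀ k₁ = 3) {q : ℕ} (hq : Nat.card (X (sr k₀)) = q)
    (hpq : ¬ p₀ ∣ q) (hc : ¬ p₀ ∣ q ^ 3 - 1 ∨ p₀ ∣ q - 1) : InA2F p₀ cs h X q k₀ k₁ := by
  obtain ⟨θ, h1, h2, h3⟩ := inA2 R hM hq
  refine ⟨θ, h1, h2, ?_, h3⟩
  obtain ⟨k, rfl, rfl, hK, hk⟩ := exists_chain hM
  revert θ
  rw [← hK]
  intro θ h1 _ _
  exact fixAll_chain R le_rfl k hk (by norm_num) (by decide) 0 hq hpq hc h1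

theorem pairF (R : RGD cs h p T n X) {k₀ k₁ : I} (hM : M k₀ k₁ = 3) {q : ℕ} (hq : Nat.card (X (sr k₀)) = q)
    (hpq : ¬ p₀ ∣ q) (hc : ¬ p₀ ∣ q ^ 3 - 1 ∨ p₀ ∣ q - 1) :
    ∃ α α' : ↥(MJ cs h X {k₀, k₁}) → ℂ, Cusp cs h X {k₀, k₁} α ∧ Cusp cs h X {k₀, k₁} α' ∧
      FixAll p₀ α ∧ FixAll p₀ α' ∧
      ∀ t (ht : t ∈ T), α' ≠ α ∘ conjME (MJ cs h X {k₀, k₁}) (T_le_normalizer_MJ R {k₀, k₁} ht) := by
  obtain ⟨α, α', h1, h2, h3⟩ := pair R hM
  have key : ∀ θ : ↥(MJ cs h X {k₀, k₁}) → ℂ, Cusp cs h X {k₀, k₁} θ → FixAll p₀ θ := by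
    obtain ⟨k, rfl, rfl, hK, hk⟩ := exists_chain hM
    rw [← hK]
    intro θ h1
    exact fixAll_chain R le_rfl k hk (by norm_num) (by decide) 0 hq hpq hc h1
  exact ⟨α, α', h1, h2, key α h1, key α' h2, h3⟩

end Cfsg.Agent.H928.Imc
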