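import Mathlib

/-!
# Elements of prime power order of `GL(V)` and invariant subspaces (S4526, helper928)

* `Free f W` : `W ≠ 0, V` is `f`-stable, no nonzero endomorphism commuting with `f` maps `V` to `W` and `W` to `0`;
* `exists_free` : `minpoly f` squarefree and not irreducible;
* `scalar_of_irreducible` : `F` finite, `dim V = n` an odd prime, `f ^ p ^ a = 1`, `det f = 1`, `p ∤ q ^ n - 1` or
  `p ∣ q - 1`: if `minpoly f` is irreducible then `f` is scalar;
* `scalar_or_free`.
-/

set_option autoImplicit false

namespace Cfsg.Agent.H928.Imc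

open Module Polynomial

universe u v

section gen

variable {F : Type u} [Field F] {V : Type v} [AddCommGroup V] [Module F V]

/-- an `f`-stable subspace with no homomorphism from the quotient -/
structure Free (f : V →ₗ[F] V) (W : Submodule F V) : Prop where
  ne_bot : W ≠ ⊥
  ne_top : W ≠ ⊤
  stab : ∀ w ∈ W, f w ∈ W
  hom : ∀ N : V →ₗ[F] V, N ∘ₗ f = f ∘ₗ N → (∀ w ∈ W, N w = 0) → (∀ v, N v ∈ W) → N = 0

theorem aeval_comm (f N : V →ₗ[F] V) (h : N ∘ₗ f = f ∘ₗ N) (P : F[X]) (v : V) :
    N (aeval f P v) = aeval f P (N v) := by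
  have h1 : Commute N f := h
  have h2 : Commute N (aeval f P) := by
    induction P using Polynomial.induction_on' with
    | add p q hp hq => rw [map_add]; exact hp.add_right hq
    | monomial n a =>
      rw [aeval_monomial]
      exact (Algebra.commute_algebraMap_right a N).mul_right (h1.pow_right n)
  exact LinearMap.congr_fun h2 v

theorem exists_free [FiniteDimensional F V] [Nontrivial V] (f : V →ₗ[F] V) (hsq : Squarefree (minpoly F f))
    (hirr : ¬ Irreducible (minpoly F f)) : ∃ W : Submodule F V, Free f W := by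
  have hint : IsIntegral F f := Algebra.IsIntegral.isIntegral f
  have h0 : minpoly F f ≠ 0 := minpoly.ne_zero hint
  have hnu : ¬ IsUnit (minpoly F f) := minpoly.not_isUnit F f
  rw [irreducible_iff] at hirr
  push Not at hirr
  obtain ⟨a, b, hab, ha, hb⟩ := hirr hnu
  have hcop : IsCoprime a b := by
    rw [hab, squarefree_mul_iff] at hsq
    exact hsq.1.isCoprime
  have hzero : ∀ v, aeval f a (aeval f b v) = 0 := by
    intro v
    rw [← Module.End.mul_apply, ← map_mul, ← hab, minpoly.aeval]
    rfl
  have hzero' : ∀ v, aeval f b (aeval f a v) = 0 := by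
    intro v
    rw [← Module.End.mul_apply, ← map_mul, mul_comm b a, ← hab, minpoly.aeval]
    rfl
  have ha0 : a ≠ 0 := by rintro rfl; rw [zero_mul] at hab; exact h0 hab
  have hb0 : b ≠ 0 := by rintro rfl; rw [mul_zero] at hab; exact h0 hab
  have hself : f ∘ₗ f = f ∘ₗ f := rfl
  refine ⟨LinearMap.ker (aeval f a), ?_, ?_, ?_, ?_⟩
  · intro hbot
    have h1 : aeval f b = 0 := by
      apply LinearMap.ext
      intro v
      have h2 : aeval f b v ∈ LinearMap.ker (aeval f a) := hzero v
      rw [hbot, Submodule.mem_bot] at h2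
      exact h2
    obtain ⟨c, hc⟩ := minpoly.dvd F f h1
    apply ha
    rw [hab] at hc
    have h2 : b * 1 = b * (a * c) := by rw [mul_one]; conv_lhs => rw [hc]
                                        ring
    exact IsUnit.of_mul_eq_one c (mul_left_cancel₀ hb0 h2).symm
  · intro htop
    have h1 : aeval f a = 0 := LinearMap.ker_eq_top.1 htop
    obtain ⟨c, hc⟩ := minpoly.dvd F f h1
    apply hb
    rw [hab] at hc
    have h2 : a * 1 = a * (b * c) := by rw [mul_one]; conv_lhs => rw [hc]
                                        ring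
    exact IsUnit.of_mul_eq_one c (mul_left_cancel₀ ha0 h2).symm
  · intro w hw
    rw [LinearMap.mem_ker] at hw ⊢
    rw [← aeval_comm f f hself, hw, map_zero]
  · intro N hN hW hV
    obtain ⟨s, t, hst⟩ := hcop
    have hid : ∀ v, aeval f (s * a) v + aeval f (t * b) v = v := by
      intro v
      rw [← LinearMap.add_apply, ← map_add, hst, map_one]
      rfl
    have key : ∀ y : V, aeval f a y = 0 → aeval f b y = 0 → y = 0 := by
      intro y h3 h4
      rw [← hid y, map_mul, map_mul, Module.End.mul_apply, Module.End.mul_apply, h3, h4, map_zero, map_zero, add_zero]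
    apply LinearMap.ext
    intro v
    rw [← hid v, map_add, LinearMap.zero_apply]
    have h1 : N (aeval f (t * b) v) = 0 := by
      apply hW
      rw [LinearMap.mem_ker, mul_comm t b, map_mul, Module.End.mul_apply]
      exact hzero _
    have h2 : N (aeval f (s * a) v) = 0 := by
      have h3 : aeval f a (N (aeval f (s * a) v)) = 0 := hV _
      have h4 : aeval f b (N (aeval f (s * a) v)) = 0 := by
        rw [← aeval_comm f N hN, mul_comm s a, map_mul, Module.End.mul_apply, hzero', map_zero]
      exact key _ h3 h4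
    rw [h1, h2, add_zero]

end gen

section arith

/-- `p ^ 2` does not divide `(q ^ n - 1) / (q - 1)`, `p ∣ q - 1`, `n` an odd prime -/
theorem sq_not_dvd {p q n S : ℕ} (hp : p.Prime) (hn : n.Prime) (hodd : Odd n) (hq : 2 ≤ q) (hpq : p ∣ q - 1)
    (hS : (q - 1) * S = q ^ n - 1) : ¬ p ^ 2 ∣ S := by
  have : Fact p.Prime := ⟨hp⟩
  have hS0 : S ≠ 0 := by
    rintro rfl
    have : 1 < q ^ n := Nat.one_lt_pow hn.ne_zero (by omega)
    omega
  rcases hp.eq_two_or_odd' with rfl | hpo
  · -- `S` is odd
    intro h
    have h1 : S = ∑ i ∈ Finset.range n, q ^ i := by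
      have h2 := Nat.geomSum_eq hq n
      rw [h2]
      symm
      apply Nat.div_eq_of_eq_mul_right (by omega) hS.symm
    have h3 : Odd q := by
      rcases Nat.even_or_odd q with h4 | h4
      · obtain ⟨k, hk⟩ := hpq
        obtain ⟨l, hl⟩ := h4
        omega
      · exact h4
    have h4 : Odd S := by
      rw [h1, Finset.odd_sum_iff_odd_card_odd]
      rw [Finset.filter_true_of_mem (fun i _ => h3.pow), Finset.card_range]
      exact hodd
    have h5 : 2 ∣ S := (dvd_pow_self 2 (by norm_num)).trans h
    rw [← Nat.not_even_iff_odd] at h4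
    exact h4 (even_iff_two_dvd.2 h5)
  · intro h
    have h1 := padicValNat.pow_sub_pow (p := p) (x := q) (y := 1) hpo (by omega) hpq
      (fun h2 => by
        have h3 : p ∣ q - (q - 1) := Nat.dvd_sub h2 hpq
        rw [Nat.sub_sub_self (by omega)] at h3
        exact hp.one_lt.ne' (Nat.dvd_one.1 h3)) (n := n) hn.ne_zero
    rw [one_pow, ← hS, padicValNat.mul (by omega) hS0] at h1
    have h2 : padicValNat p S = padicValNat p n := by omega
    have h3 : 2 ≤ padicValNat p S := (padicValNat_dvd_iff_le hS0).1 h
    have h4 : padicValNat p n ≤ 1 := by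
      by_contra hcon
      have h5 : p ^ 2 ∣ n := (padicValNat_dvd_iff_le hn.ne_zero).2 (by omega)
      have h6 := hn.squarefree p (by rw [← pow_two]; exact h5)
      exact hp.one_lt.ne' (Nat.isUnit_iff.1 h6)
    omega

end arith

section irr

variable {F : Type u} [Field F] [Finite F] {V : Type v} [AddCommGroup V] [Module F V] [FiniteDimensional F V]

theorem scalar_of_irreducible {n : ℕ} (hn : n.Prime) (hodd : Odd n) (hV : finrank F V = n) (f : V →ₗ[F] V)
    (hdet : LinearMap.det f = 1) {p a : ℕ} (hp : p.Prime) (hf : f ^ p ^ a = 1)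
    (hc : ¬ p ∣ Nat.card F ^ n - 1 ∨ p ∣ Nat.card F - 1) (hirr : Irreducible (minpoly F f)) :
    ∃ c : F, f = c • LinearMap.id := by
  classical
  have hint : IsIntegral F f := Algebra.IsIntegral.isIntegral f
  have hmon := minpoly.monic hint
  have hq : 2 ≤ Nat.card F := Finite.one_lt_card
  -- linear minimal polynomial
  have hlin : ∀ c : F, minpoly F f ∣ X - C c → ∃ c : F, f = c • LinearMap.id := by
    intro c hd
    refine ⟨c, ?_⟩
    obtain ⟨P, hP⟩ := hd
    have h1 : aeval f (X - C c) = 0 := by rw [hP, map_mul, minpoly.aeval, zero_mul]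
    rw [map_sub, aeval_X, aeval_C, sub_eq_zero] at h1
    rw [h1]
    rfl
  have : Fact (Irreducible (minpoly F f)) := ⟨hirr⟩
  let K := AdjoinRoot (minpoly F f)
  let V' := Module.AEval' f
  have htor : Module.IsTorsionBySet F[X] V' (Ideal.span {minpoly F f} : Ideal F[X]) := by
    rw [Module.isTorsionBySet_span_singleton_iff]
    intro v
    change minpoly F f • v = 0
    obtain ⟨w, rfl⟩ := (Module.AEval'.of f).surjective v
    have h1 := Module.AEval.of_aeval_smul (R := F) (M := V) (a := f) (minpoly F f) w
    rw [minpoly.aeval, zero_smul, map_zero] at h1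
    exact h1.symm
  let _ : Module K V' := htor.module
  have hsm : ∀ (P : F[X]) (v : V'), (AdjoinRoot.mk (minpoly F f) P : K) • v = P • v := fun P v =>
    Module.IsTorsionBySet.mk_smul htor P v
  have htow : IsScalarTower F K V' := Module.IsTorsionBySet.isScalarTower htor
  have hfV' : finrank F V' = n := by
    rw [← hV]
    exact (LinearEquiv.finrank_eq (Module.AEval'.of f)).symm
  have hfin : Module.Finite F V' := Module.Finite.equiv (Module.AEval'.of f)
  have hKfin : Module.Finite F K := (AdjoinRoot.powerBasis hirr.ne_zero).finite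
  have hKfin' : Finite K := Module.finite_of_finite F
  have hVK : Module.Finite K V' := Module.Finite.of_restrictScalars_finite F K V'
  have hmul : finrank F K * finrank K V' = n := by rw [← hfV']; exact Module.finrank_mul_finrank F K V'
  have hdeg : finrank F K = (minpoly F f).natDegree := by
    rw [(AdjoinRoot.powerBasis hirr.ne_zero).finrank, AdjoinRoot.powerBasis_dim]
  rcases (Nat.dvd_prime hn).1 (Dvd.intro _ hmul) with h1 | h1
  · -- degree one
    rw [hdeg] at h1
    obtain ⟨c, hc'⟩ : ∃ c : F, minpoly F f = X - C c := by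
      refine ⟨-(minpoly F f).coeff 0, ?_⟩
      rw [C_neg, sub_neg_eq_add]
      have h2 := hmon.as_sum
      rw [h1] at h2
      rw [h2]
      simp
    exact hlin c (by rw [hc'])
  · -- degree `n`
    exfalso
    have h2 : finrank K V' = 1 := by
      rw [h1] at hmul
      exact Nat.eq_of_mul_eq_mul_left hn.pos (by rw [hmul, mul_one])
    have hnot : ∀ c : F, ¬ minpoly F f ∣ X - C c := by
      intro c hd
      have h3 := Polynomial.natDegree_le_of_dvd hd (X_sub_C_ne_zero c)
      rw [natDegree_X_sub_C, ← hdeg, h1] at h3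
      exact absurd hn.two_le (by omega)
    have hx : ∀ c : F, AdjoinRoot.root (minpoly F f) ≠ algebraMap F K c := by
      intro c hcon
      apply hnot c
      rw [← AdjoinRoot.mk_eq_zero, map_sub, AdjoinRoot.mk_X, AdjoinRoot.mk_C, sub_eq_zero]
      exact hcon
    set x : K := AdjoinRoot.root (minpoly F f) with hxdef
    have hxp : x ^ p ^ a = 1 := by
      have h3 : minpoly F f ∣ X ^ p ^ a - 1 := by
        apply minpoly.dvd
        rw [map_sub, map_pow, aeval_X, map_one, hf, sub_self]
      rw [← AdjoinRoot.mk_eq_zero, map_sub, map_pow, AdjoinRoot.mk_X, map_one, sub_eq_zero] at h3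
      exact h3
    have hx0 : x ≠ 0 := by
      intro h
      rw [h, zero_pow (pow_ne_zero _ hp.ne_zero)] at hxp
      exact zero_ne_one hxp
    have hcard : Nat.card K = Nat.card F ^ n := by
      rw [Module.natCard_eq_pow_finrank (K := F) (V := K), h1]
    have hxu : (Units.mk0 x hx0) ^ p ^ a = 1 := Units.ext (by
      rw [Units.val_pow_eq_pow_val, Units.val_mk0, hxp, Units.val_one])
    have hoa : orderOf (Units.mk0 x hx0) ∣ p ^ a := orderOf_dvd_of_pow_eq_one hxu
    have hoc : orderOf (Units.mk0 x hx0) ∣ Nat.card F ^ n - 1 := by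
      rw [← hcard, ← Nat.card_units]
      exact orderOf_dvd_natCard _
    rcases hc with hc | hc
    · -- `x = 1`
      have h3 : Nat.Coprime (p ^ a) (Nat.card F ^ n - 1) :=
        Nat.Coprime.pow_left a ((Nat.Prime.coprime_iff_not_dvd hp).2 hc)
      have h4 := Nat.eq_one_of_dvd_coprimes h3 hoa hoc
      rw [orderOf_eq_one_iff] at h4
      have h5 : x = 1 := congrArg Units.val h4
      exact hx 1 (by rw [map_one]; exact h5)
    · -- the norm
      let S := (Nat.card F ^ n - 1) / (Nat.card F - 1)
      have hSd : (Nat.card F - 1) * S = Nat.card F ^ n - 1 := by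
        apply Nat.mul_div_cancel'
        simpa using Nat.sub_dvd_pow_sub_pow (Nat.card F) 1 n
      have hnorm : x ^ S = 1 := by
        have h3 : LinearMap.det (x • (LinearMap.id : V' →ₗ[K] V')) = x := by
          rw [LinearMap.det_smul, h2, pow_one, LinearMap.det_id, mul_one]
        have h4 := LinearMap.det_restrictScalars (R := F) (f := x • (LinearMap.id : V' →ₗ[K] V'))
        rw [h3] at h4
        have h5 : ((x • (LinearMap.id : V' →ₗ[K] V')).restrictScalars F) =
            ((Module.AEval'.of f : V ≃ₗ[F] V') : V →ₗ[F] V') ∘ₗ f ∘ₗ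
              ((Module.AEval'.of f).symm : V' →ₗ[F] V) := by
          apply LinearMap.ext
          intro v
          obtain ⟨w, rfl⟩ := (Module.AEval'.of f).surjective v
          change x • (Module.AEval'.of f w) = Module.AEval'.of f (f ((Module.AEval'.of f).symm (Module.AEval'.of f w)))
          rw [LinearEquiv.symm_apply_apply, ← Module.AEval'.X_smul_of]
          exact hsm X _
        rw [h5, LinearMap.det_conj, hdet] at h4
        have h6 := FiniteField.algebraMap_norm_eq_pow (K := F) (K' := K) (x := x)
        rw [← h4, map_one, hcard] at h6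
        exact h6.symm
      have h3 : Nat.gcd (p ^ a) S ∣ p := by
        obtain ⟨j, hj, hj'⟩ := (Nat.dvd_prime_pow hp).1 (Nat.gcd_dvd_left (p ^ a) S)
        rw [hj']
        have h4 := sq_not_dvd hp hn hodd hq hc hSd
        have h5 : j < 2 := by
          by_contra hcon
          apply h4
          exact (pow_dvd_pow p (by omega : 2 ≤ j)).trans (hj' ▸ Nat.gcd_dvd_right _ _)
        calc p ^ j ∣ p ^ 1 := pow_dvd_pow p (by omega)
          _ = p := pow_one p
      have h4 : x ^ p = 1 := by
        obtain ⟨k, hk⟩ := h3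
        have h5 : x ^ Nat.gcd (p ^ a) S = 1 := by
          have hS1 : (Units.mk0 x hx0) ^ S = 1 :=
            Units.ext (by rw [Units.val_pow_eq_pow_val, Units.val_mk0, hnorm, Units.val_one])
          have h8 : (Units.mk0 x hx0) ^ Nat.gcd (p ^ a) S = 1 := pow_gcd_eq_one.2 ⟨hxu, hS1⟩
          have := congrArg Units.val h8
          rwa [Units.val_pow_eq_pow_val, Units.val_mk0, Units.val_one] at this
        conv_lhs => rw [hk]
        rw [pow_mul, h5, one_pow]
      have : Fact p.Prime := ⟨hp⟩
      obtain ⟨ζ, hζ⟩ : ∃ ζ : Fˣ, orderOf ζ = p := by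
        have : Fintype Fˣ := Fintype.ofFinite _
        refine exists_prime_orderOf_dvd_card p ?_
        rw [← Nat.card_eq_fintype_card, Nat.card_units]
        exact hc
      have h5 : IsPrimitiveRoot (ζ : F) p := by
        rw [← hζ]
        exact (IsPrimitiveRoot.orderOf ζ).map_of_injective (f := Units.coeHom F) Units.val_injective
      have h6 : IsPrimitiveRoot (algebraMap F K ζ) p := h5.map_of_injective (algebraMap F K).injective
      obtain ⟨i, -, hi⟩ := h6.eq_pow_of_pow_eq_one h4
      exact hx ((ζ : F) ^ i) (by rw [map_pow]; exact hi.symm)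

theorem scalar_or_free [Nontrivial V] {n : ℕ} (hn : n.Prime) (hodd : Odd n) (hV : finrank F V = n) (f : V →ₗ[F] V)
    (hdet : LinearMap.det f = 1) {p a : ℕ} (hp : p.Prime) (hpF : (p : F) ≠ 0) (hf : f ^ p ^ a = 1)
    (hc : ¬ p ∣ Nat.card F ^ n - 1 ∨ p ∣ Nat.card F - 1) :
    (∃ c : F, f = c • LinearMap.id) ∨ ∃ W : Submodule F V, Free f W := by
  by_cases hirr : Irreducible (minpoly F f)
  · exact Or.inl (scalar_of_irreducible hn hodd hV f hdet hp hf hc hirr)
  · refine Or.inr (exists_free f ?_ hirr)
    have h1 : (X ^ p ^ a - 1 : F[X]).Separable := by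
      rw [X_pow_sub_one_separable_iff, Nat.cast_pow]
      exact pow_ne_zero _ hpF
    refine h1.squarefree.squarefree_of_dvd ?_
    apply minpoly.dvd
    rw [map_sub, map_pow, aeval_X, map_one, hf, sub_self]

end irr

end Cfsg.Agent.H928.Imc
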