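import Cfsg.Agent.H928.Imc.Lin
import Cfsg.Agent.H622.Levi.Constit
import Cfsg.Agent.H61.GowGlue
import Cfsg.Agent.H661.SC.Fix

/-!
# Cuspidal characters of `SL_n(F)` vanish at the noncentral `p`-elements (S4526, helper928)

* `apply_eq_zero_of_free` : `χ` without fixed vectors of `V`, `g` normalises `V`, `C_V(g) = 1`: `χ g = 0`;
* `sl_value` : `n = m + 1` an odd prime, `η` a character of `SL_n(F)` with zero sums over the block unipotent subgroups:
  `η g = 0` for the noncentral elements `g` of `p`-power order, `p ∤ q ^ n - 1` or `p ∣ q - 1`;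
* `fixAll_sl` : fixed vectors of all the `p`-subgroups, `η` trivial on the centre;
* `FixAll.of_comp` : descent.
-/

set_option autoImplicit false

open scoped ComplexConjugate

namespace Cfsg.Agent.H928.Imc

open Cfsg Cfsg.Agent.Characters Cfsg.Agent.Characters.Core Cfsg.Agent.H53.HC Cfsg.Agent.H622.Levi
  Cfsg.Agent.H661.SC Cfsg.Agent.H625.SylConst Module Matrix

universe u v

section grp

variable {G : Type u} [Group G]

/-- If the sum of a character over a subgroup is zero then so are the sums over the cosets. -/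
theorem sum_mul_eq_zero {χ : G → ℂ} (hχ : IsCharacter G χ) (V : Subgroup G) [Fintype V]
    (h : ∑ v : V, χ v = 0) (g : G) : ∑ v : V, χ (g * v) = 0 := by
  obtain ⟨n, ρ, rfl⟩ := hχ
  obtain ⟨E, hE⟩ : ∃ E : (Fin n → ℂ) →ₗ[ℂ] (Fin n → ℂ), E = ∑ a : V, ρ (a : G) := ⟨_, rfl⟩
  have hE1 : ∀ a : V, ρ (a : G) * E = E := by
    intro a
    rw [hE, Finset.mul_sum]
    exact Fintype.sum_equiv (Equiv.mulLeft a) _ _ fun b => by
      rw [← map_mul ρ]
      rfl
  have hE2 : E * E = (Fintype.card V : ℂ) • E := by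
    conv_lhs => rw [hE, Finset.sum_mul]
    rw [← hE, Finset.sum_congr rfl (fun a _ => hE1 a), Finset.sum_const, Finset.card_univ,
      Nat.cast_smul_eq_nsmul]
  have hc : (Fintype.card V : ℂ) ≠ 0 := Nat.cast_ne_zero.2 Fintype.card_ne_zero
  have hid : IsIdempotentElem ((Fintype.card V : ℂ)⁻¹ • E) := by
    show ((Fintype.card V : ℂ)⁻¹ • E) * ((Fintype.card V : ℂ)⁻¹ • E) = (Fintype.card V : ℂ)⁻¹ • E
    rw [smul_mul_assoc, mul_smul_comm, hE2, smul_smul, smul_smul, inv_mul_cancel_right₀ hc]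
  have htr : LinearMap.trace ℂ _ E = 0 := by
    rw [hE, map_sum]
    exact h
  have h0 := LinearMap.IsIdempotentElem.eq_zero_of_trace_eq_zero hid (by rw [map_smul, htr, smul_zero])
  have hE0 : E = 0 := (smul_eq_zero.1 h0).resolve_left (inv_ne_zero hc)
  have h1 : ∑ a : V, ρ.character (g * a) = LinearMap.trace ℂ _ (ρ g * E) := by
    rw [hE, Finset.mul_sum, map_sum]
    refine Finset.sum_congr rfl fun a _ => ?_
    rw [← map_mul]
    rfl
  rw [h1, hE0, mul_zero, map_zero]

/-- **Vanishing**: `χ` has no fixed vectors of `V`, `g` normalises `V` and `C_V(g) = 1`. -/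
theorem apply_eq_zero_of_free {χ : G → ℂ} (hχ : IsCharacter G χ) (V : Subgroup G) [Fintype V]
    (h0 : ∑ v : V, χ v = 0) {g : G} (hn : ∀ v ∈ V, g⁻¹ * v * g ∈ V) (hc : ∀ v ∈ V, v * g = g * v → v = 1) :
    χ g = 0 := by
  have hcl := isCharacter_isClassFunction hχ
  let f : V → V := fun v => ⟨(g⁻¹ * (v : G)⁻¹ * g) * v, mul_mem (hn _ (inv_mem v.2)) v.2⟩
  have hinj : Function.Injective f := by
    intro v w hvw
    have h1 : g⁻¹ * (v : G)⁻¹ * g * v = g⁻¹ * (w : G)⁻¹ * g * w := congrArg Subtype.val hvw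
    have h2 : ((w : G) * (v : G)⁻¹) * g = g * ((w : G) * (v : G)⁻¹) := by
      have h3 : (w : G) * g * (g⁻¹ * (v : G)⁻¹ * g * v) * (v : G)⁻¹ =
          (w : G) * g * (g⁻¹ * (w : G)⁻¹ * g * w) * (v : G)⁻¹ := by rw [h1]
      have e1 : (w : G) * g * (g⁻¹ * (v : G)⁻¹ * g * v) * (v : G)⁻¹ = ((w : G) * (v : G)⁻¹) * g := by group
      have e2 : (w : G) * g * (g⁻¹ * (w : G)⁻¹ * g * w) * (v : G)⁻¹ = g * ((w : G) * (v : G)⁻¹) := by group
      rw [e1, e2] at h3
      exact h3
    have h3 := hc _ (mul_mem w.2 (inv_mem v.2)) h2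
    exact Subtype.ext (mul_inv_eq_one.1 h3).symm
  have hbij : Function.Bijective f := hinj.bijective_of_finite
  have h1 : ∀ v : V, χ (g * (f v : G)) = χ g := by
    intro v
    have e : g * (f v : G) = (v : G)⁻¹ * g * ((v : G)⁻¹)⁻¹ := by
      change g * (g⁻¹ * (v : G)⁻¹ * g * v) = _
      group
    rw [e]
    exact hcl _ _
  have h2 : ∑ v : V, χ (g * (f v : G)) = ∑ v : V, χ (g * (v : G)) :=
    hbij.sum_comp (fun v : V => χ (g * (v : G)))
  rw [sum_mul_eq_zero hχ V h0, Finset.sum_congr rfl (fun v _ => h1 v), Finset.sum_const, Finset.card_univ,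
    nsmul_eq_mul] at h2
  exact (mul_eq_zero.1 h2).resolve_left (Nat.cast_ne_zero.2 Fintype.card_ne_zero)

/-- descent of fixed vectors -/
theorem fixAll_of_comp {H : Type v} [Group H] [Finite G] {p : ℕ} [Fact p.Prime] (f : G →* H)
    (hf : Function.Surjective f) {χ : H → ℂ} (hχ : IsCharacter H χ) (h : FixAll p (χ ∘ f)) : FixAll p χ := by
  have : Finite H := Finite.of_surjective f hf
  obtain ⟨P⟩ : Nonempty (Sylow p G) := inferInstance
  exact FixAll.of_sylow hχ (P.mapSurjective hf) (fix_of_comp f _ (h _ P.isPGroup'))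

end grp

section sl

variable {m : ℕ} {F : Type u} [Field F] [Finite F]

omit [Finite F] in
/-- the coordinates of `g` are those of the images of the standard basis -/
theorem toLin'_single (g : SpecialLinearGroup (Fin (m + 1)) F) (r s : Fin (m + 1)) :
    SpecialLinearGroup.toLin' g (Pi.single s 1) r = g.1 r s := by
  rw [SpecialLinearGroup.toLin'_apply, Matrix.toLin'_apply, Matrix.mulVec_single_one]
  rfl

theorem mem_UU_iff {i : Fin m} {g : SpecialLinearGroup (Fin (m + 1)) F} :
    g ∈ UU F i ↔ SpecialLinearGroup.toLin' g ∈ radU (firstC F i) := by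
  constructor
  · exact toLin'_mem_radU
  · intro hu
    rw [mem_radU] at hu
    rw [mem_UU]
    intro r s hrs
    rw [← toLin'_single, Matrix.one_apply]
    by_cases hs : s.val ≤ i.val
    · rw [hu.2 _ (single_mem_firstC hs), Pi.single_apply]
    · have h1 := hu.1 (Pi.single s 1) r (by omega)
      rw [Pi.sub_apply, sub_eq_zero] at h1
      rw [h1, Pi.single_apply]

theorem finrank_firstC (i : Fin m) : finrank F (firstC F i) = i.val + 1 := by
  classical
  have h1 : (firstC F i) = LinearMap.range (LinearMap.funLeft F F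
      (fun j : Fin (m + 1) => if h : j.val ≤ i.val then (some (⟨j.val, by omega⟩ : Fin (i.val + 1))) else none) ∘ₗ
        (LinearMap.pi (fun o : Option (Fin (i.val + 1)) => o.elim 0 (fun j => LinearMap.proj j)) :
          (Fin (i.val + 1) → F) →ₗ[F] (Option (Fin (i.val + 1)) → F))) := by
    ext v
    rw [mem_firstC, LinearMap.mem_range]
    constructor
    · intro hv
      refine ⟨fun j => v ⟨j.val, by omega⟩, ?_⟩
      funext j
      rw [LinearMap.comp_apply, LinearMap.funLeft_apply, LinearMap.pi_apply]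
      by_cases h : j.val ≤ i.val
      · rw [dif_pos h]; rfl
      · rw [dif_neg h, hv j (by omega)]; rfl
    · rintro ⟨w, rfl⟩ j hj
      rw [LinearMap.comp_apply, LinearMap.funLeft_apply, LinearMap.pi_apply, dif_neg (by omega)]
      rfl
  rw [h1, LinearMap.finrank_range_of_inj]
  · rw [finrank_fin_fun]
  · rw [← LinearMap.ker_eq_bot, LinearMap.ker_eq_bot']
    intro w hw
    funext j
    have h2 := congrFun hw ⟨j.val, by omega⟩
    rw [LinearMap.comp_apply, LinearMap.funLeft_apply, LinearMap.pi_apply, dif_pos (by change j.val ≤ i.val; omega)] at h2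
    exact h2

/-- the unipotent radical of the stabiliser of `W` -/
def radSL (W : Submodule F (Fin (m + 1) → F)) : Subgroup (SpecialLinearGroup (Fin (m + 1)) F) :=
  (radU W).comap SpecialLinearGroup.toLin'

omit [Finite F] in
theorem mem_radSL {W : Submodule F (Fin (m + 1) → F)} {g : SpecialLinearGroup (Fin (m + 1)) F} :
    g ∈ radSL W ↔ (∀ w, SpecialLinearGroup.toLin' g w - w ∈ W) ∧ ∀ d ∈ W, SpecialLinearGroup.toLin' g d = d := Iff.rfl

omit [Finite F] in
/-- an element of `SL_n` for an automorphism of determinant one -/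
theorem exists_sl (e : (Fin (m + 1) → F) ≃ₗ[F] (Fin (m + 1) → F)) (he : LinearEquiv.det e = 1) :
    ∃ P : SpecialLinearGroup (Fin (m + 1)) F, SpecialLinearGroup.toLin' P = e := by
  refine ⟨⟨LinearMap.toMatrix' (e : (Fin (m + 1) → F) →ₗ[F] (Fin (m + 1) → F)), ?_⟩, ?_⟩
  · rw [LinearMap.det_toMatrix']
    have := congrArg Units.val he
    rwa [LinearEquiv.coe_det, Units.val_one] at this
  · apply LinearEquiv.toLinearMap_injective
    change Matrix.toLin' (LinearMap.toMatrix' (e : (Fin (m + 1) → F) →ₗ[F] (Fin (m + 1) → F))) =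
      (e : (Fin (m + 1) → F) →ₗ[F] (Fin (m + 1) → F))
    exact Matrix.toLin'_toMatrix' _

theorem sum_radSL {η : SpecialLinearGroup (Fin (m + 1)) F → ℂ} (hη : IsClassFunction _ η)
    (hs : ∀ i : Fin m, ∀ [Fintype (UU F i)], ∑ g : UU F i, η g = 0) {W : Submodule F (Fin (m + 1) → F)}
    (h1 : W ≠ ⊥) (h2 : W ≠ ⊤) [Fintype (radSL W)] : ∑ g : radSL W, η g = 0 := by
  classical
  have hd1 : 0 < finrank F W := by
    rw [Nat.pos_iff_ne_zero, ne_eq, Submodule.finrank_eq_zero]
    exact h1
  have hd2 : finrank F W < m + 1 := by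
    have := Submodule.finrank_lt h2
    rwa [finrank_fin_fun] at this
  let i : Fin m := ⟨finrank F W - 1, by omega⟩
  have hi : finrank F (firstC F i) = finrank F W := by
    rw [finrank_firstC]
    change finrank F W - 1 + 1 = _
    omega
  obtain ⟨e, he, heW⟩ := H61.GowGlue.exists_map_det (firstC F i) W hi (firstC_ne_top i)
  obtain ⟨P, rfl⟩ := exists_sl e he
  have : Fintype (UU F i) := Fintype.ofFinite _
  rw [← hs i]
  have hmem : ∀ g, g ∈ radSL W ↔ P⁻¹ * g * P ∈ UU F i := by
    intro g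
    have hW : ∀ x, SpecialLinearGroup.toLin' P x ∈ W ↔ x ∈ firstC F i := by
      intro x
      rw [← heW]
      constructor
      · rintro ⟨y, hy, hyx⟩
        have := (SpecialLinearGroup.toLin' P).injective hyx
        rwa [← this]
      · exact fun hx => ⟨x, hx, rfl⟩
    have hmul : ∀ x, SpecialLinearGroup.toLin' (P⁻¹ * g * P) x =
        (SpecialLinearGroup.toLin' P).symm (SpecialLinearGroup.toLin' g (SpecialLinearGroup.toLin' P x)) := by
      intro x
      rw [map_mul, map_mul, map_inv]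
      rfl
    rw [mem_UU_iff, mem_radU, mem_radSL]
    constructor
    · rintro ⟨ha, hb⟩
      refine ⟨fun w => ?_, fun d hd => ?_⟩
      · rw [hmul, ← hW, map_sub, LinearEquiv.apply_symm_apply]
        exact ha _
      · rw [hmul, hb _ ((hW d).2 hd), LinearEquiv.symm_apply_apply]
    · rintro ⟨ha, hb⟩
      refine ⟨fun w => ?_, fun d hd => ?_⟩
      · have h3 := ha ((SpecialLinearGroup.toLin' P).symm w)
        rw [hmul, LinearEquiv.apply_symm_apply, ← hW, map_sub, LinearEquiv.apply_symm_apply,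
          LinearEquiv.apply_symm_apply] at h3
        exact h3
      · have h3 : (SpecialLinearGroup.toLin' P).symm d ∈ firstC F i := by
          rw [← hW, LinearEquiv.apply_symm_apply]
          exact hd
        have h4 := hb _ h3
        rw [hmul, LinearEquiv.apply_symm_apply] at h4
        exact (SpecialLinearGroup.toLin' P).symm.injective h4
  refine Fintype.sum_bijective (fun g : radSL W => (⟨P⁻¹ * g * P, (hmem g).1 g.2⟩ : UU F i)) ⟨?_, ?_⟩ _ _ ?_
  · intro g g' h
    have h3 : P⁻¹ * g * P = P⁻¹ * g' * P := congrArg Subtype.val h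
    exact Subtype.ext (mul_left_cancel (mul_right_cancel h3))
  · rintro ⟨x, hx⟩
    refine ⟨⟨P * x * P⁻¹, (hmem _).2 ?_⟩, Subtype.ext ?_⟩
    · have : P⁻¹ * (P * x * P⁻¹) * P = x := by group
      rwa [this]
    · change P⁻¹ * (P * x * P⁻¹) * P = x
      group
  · intro g
    have h3 := hη (P⁻¹ * (g : SpecialLinearGroup (Fin (m + 1)) F) * P) P
    have h4 : P * (P⁻¹ * (g : SpecialLinearGroup (Fin (m + 1)) F) * P) * P⁻¹ = g := by group
    rw [h4] at h3
    exact h3

theorem eq_zero_of_free {η : SpecialLinearGroup (Fin (m + 1)) F → ℂ} (hη : IsCharacter _ η)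
    (hs : ∀ i : Fin m, ∀ [Fintype (UU F i)], ∑ g : UU F i, η g = 0) {g : SpecialLinearGroup (Fin (m + 1)) F}
    {W : Submodule F (Fin (m + 1) → F)}
    (hW : Free (SpecialLinearGroup.toLin' g : (Fin (m + 1) → F) →ₗ[F] (Fin (m + 1) → F)) W) : η g = 0 := by
  have : Fintype (radSL W) := Fintype.ofFinite _
  have hmap : ∀ d ∈ W, (SpecialLinearGroup.toLin' g).symm d ∈ W := by
    have h1 : W.map (SpecialLinearGroup.toLin' g : (Fin (m + 1) → F) →ₗ[F] (Fin (m + 1) → F)) = W := by
      apply Submodule.eq_of_le_of_finrank_eq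
      · rintro _ ⟨w, hw, rfl⟩
        exact hW.stab w hw
      · exact LinearEquiv.finrank_map_eq _ _
    intro d hd
    rw [← h1] at hd
    obtain ⟨w, hw, rfl⟩ := hd
    change (SpecialLinearGroup.toLin' g).symm (SpecialLinearGroup.toLin' g w) ∈ W
    rw [LinearEquiv.symm_apply_apply]
    exact hw
  have hmul : ∀ v x, SpecialLinearGroup.toLin' (g⁻¹ * v * g) x =
      (SpecialLinearGroup.toLin' g).symm (SpecialLinearGroup.toLin' v (SpecialLinearGroup.toLin' g x)) := by
    intro v x
    rw [map_mul, map_mul, map_inv]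
    rfl
  refine apply_eq_zero_of_free hη (radSL W) (sum_radSL (isCharacter_isClassFunction hη) hs hW.ne_bot hW.ne_top)
    (fun v hv => ?_) (fun v hv hvg => ?_)
  · rw [mem_radSL] at hv ⊢
    refine ⟨fun w => ?_, fun d hd => ?_⟩
    · rw [hmul]
      have h1 := hmap _ (hv.1 (SpecialLinearGroup.toLin' g w))
      rw [map_sub, LinearEquiv.symm_apply_apply] at h1
      exact h1
    · have h5 : SpecialLinearGroup.toLin' v (SpecialLinearGroup.toLin' g d) = SpecialLinearGroup.toLin' g d :=
        hv.2 _ (hW.stab d hd)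
      rw [hmul, h5, LinearEquiv.symm_apply_apply]
  · rw [mem_radSL] at hv
    have h1 := hW.hom ((SpecialLinearGroup.toLin' v : (Fin (m + 1) → F) →ₗ[F] (Fin (m + 1) → F)) - LinearMap.id)
      (by
        rw [LinearMap.sub_comp, LinearMap.comp_sub]
        congr 1
        apply LinearMap.ext
        intro x
        have h2 := congrArg (fun e => SpecialLinearGroup.toLin' e x) hvg
        simp only [map_mul] at h2
        exact h2)
      (fun w hw => by
        rw [LinearMap.sub_apply, LinearMap.id_apply]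
        exact sub_eq_zero.2 (hv.2 w hw))
      (fun w => hv.1 w)
    apply SpecialLinearGroup.toLin'_injective
    apply LinearEquiv.ext
    intro x
    have h2 := LinearMap.congr_fun h1 x
    rw [LinearMap.sub_apply, LinearMap.id_apply, LinearMap.zero_apply, sub_eq_zero] at h2
    rw [map_one]
    exact h2

variable {p : ℕ}

/-- **Values at the elements of `p`-power order.** -/
theorem sl_value (hm : (m + 1).Prime) (hodd : Odd (m + 1)) (hp : p.Prime) (hpF : (p : F) ≠ 0)
    (hc : ¬ p ∣ Nat.card F ^ (m + 1) - 1 ∨ p ∣ Nat.card F - 1)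
    {η : SpecialLinearGroup (Fin (m + 1)) F → ℂ} (hη : IsCharacter _ η)
    (hs : ∀ i : Fin m, ∀ [Fintype (UU F i)], ∑ g : UU F i, η g = 0) {g : SpecialLinearGroup (Fin (m + 1)) F} {a : ℕ}
    (hg : g ^ p ^ a = 1) (hgc : g ∉ Subgroup.center (SpecialLinearGroup (Fin (m + 1)) F)) : η g = 0 := by
  have hdet : LinearMap.det (SpecialLinearGroup.toLin' g : (Fin (m + 1) → F) →ₗ[F] (Fin (m + 1) → F)) = 1 := by
    change LinearMap.det (Matrix.toLin' g.1) = 1
    rw [LinearMap.det_toLin']
    exact g.2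
  have hpow : (SpecialLinearGroup.toLin' g : (Fin (m + 1) → F) →ₗ[F] (Fin (m + 1) → F)) ^ p ^ a = 1 := by
    have h1 : ∀ k : ℕ, (SpecialLinearGroup.toLin' g : (Fin (m + 1) → F) →ₗ[F] (Fin (m + 1) → F)) ^ k =
        (SpecialLinearGroup.toLin' (g ^ k) : (Fin (m + 1) → F) →ₗ[F] (Fin (m + 1) → F)) := by
      intro k
      induction k with
      | zero => rw [pow_zero, pow_zero, map_one]; rfl
      | succ k ih => rw [pow_succ, pow_succ, map_mul, ih]; rfl
    rw [h1, hg, map_one]
    rfl
  rcases scalar_or_free hm hodd (finrank_fin_fun F) _ hdet hp hpF hpow hc with ⟨c, h⟩ | ⟨W, hW⟩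
  · exfalso
    apply hgc
    rw [Matrix.SpecialLinearGroup.mem_center_iff]
    have h1 : g.1 = c • (1 : Matrix (Fin (m + 1)) (Fin (m + 1)) F) := by
      apply Matrix.toLin'.injective
      rw [map_smul, Matrix.toLin'_one]
      exact h
    refine ⟨c, ?_, ?_⟩
    · have h2 := g.2
      rw [h1, Matrix.det_smul, Matrix.det_one, mul_one, Fintype.card_fin] at h2
      rw [Fintype.card_fin]
      exact h2
    · rw [h1, Matrix.scalar_apply, Matrix.smul_one_eq_diagonal]
  · exact eq_zero_of_free hη hs hW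

/-- **Fixed vectors of all the `p`-subgroups.** -/
theorem fixAll_sl (hm : (m + 1).Prime) (hodd : Odd (m + 1)) (hp : p.Prime) (hpF : (p : F) ≠ 0)
    (hc : ¬ p ∣ Nat.card F ^ (m + 1) - 1 ∨ p ∣ Nat.card F - 1)
    {η : SpecialLinearGroup (Fin (m + 1)) F → ℂ} (hη : IsIrrCharacter _ η)
    (hz : ∀ z ∈ Subgroup.center (SpecialLinearGroup (Fin (m + 1)) F), η z = η 1)
    (hs : ∀ i : Fin m, ∀ [Fintype (UU F i)], ∑ g : UU F i, η g = 0) : FixAll p η := by
  intro R hR
  obtain ⟨d, hd0, hd⟩ := isIrr_apply_one hη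
  have h1 : 0 < (η 1).re := by
    rw [hd, Complex.natCast_re]
    exact_mod_cast hd0
  refine fix_of_re h1 fun z hz' => ?_
  by_cases hzc : z ∈ Subgroup.center (SpecialLinearGroup (Fin (m + 1)) F)
  · rw [hz z hzc]
    exact h1.le
  · obtain ⟨a, ha⟩ := hR ⟨z, hz'⟩
    have h2 : z ^ p ^ a = 1 := by
      have := congrArg Subtype.val ha
      simpa using this
    rw [sl_value hm hodd hp hpF hc (isIrr_isCharacter hη) hs h2 hzc, Complex.zero_re]

end sl

end Cfsg.Agent.H928.Imc
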